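import Groth.Agent.Models2.OmegaFree
import Mathlib.RingTheory.PicardGroup
import Mathlib.LinearAlgebra.Matrix.GeneralLinearGroup.Defs
import Mathlib.LinearAlgebra.Matrix.NonsingularInverse
import Mathlib.LinearAlgebra.Matrix.ToLin
import Mathlib.Algebra.Algebra.Equiv
import Mathlib.Data.Matrix.Basis
import Mathlib.LinearAlgebra.Matrix.Module

set_option autoImplicit false

open CommRing Module Module.Invertible TensorProduct

namespace K819.MatAut

universe u v w

variable {R : Type u} [CommRing R] {V : Type v} [AddCommGroup V] [Module R V] {n : ℕ}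
  (ρ : Matrix (Fin (n + 1)) (Fin (n + 1)) R →ₐ[R] Module.End R V)

/-- the matrix units -/
abbrev E (i j : Fin (n + 1)) : Matrix (Fin (n + 1)) (Fin (n + 1)) R := Matrix.single i j 1

theorem E_mul (i j l : Fin (n + 1)) : (E i j * E j l : Matrix (Fin (n + 1)) (Fin (n + 1)) R) = E i l := by
  simp [E]

theorem E_mul_of_ne (i j k l : Fin (n + 1)) (h : j ≠ k) :
    (E i j * E k l : Matrix (Fin (n + 1)) (Fin (n + 1)) R) = 0 := by
  simp [E, h]

theorem sum_E : ∑ i : Fin (n + 1), (E i i : Matrix (Fin (n + 1)) (Fin (n + 1)) R) = 1 := by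
  ext a b
  rw [Matrix.sum_apply, Matrix.one_apply]
  simp only [E, Matrix.single_apply]
  by_cases hab : a = b
  · subst hab
    simp
  · rw [if_neg hab]
    refine Finset.sum_eq_zero fun i _ => if_neg ?_
    rintro ⟨h1, h2⟩
    exact hab (h1.symm.trans h2)

theorem ρ_mul (A B : Matrix (Fin (n + 1)) (Fin (n + 1)) R) (v : V) : ρ A (ρ B v) = ρ (A * B) v := by
  rw [map_mul]; rfl

/-- The first block. -/
abbrev N : Submodule R V := LinearMap.range (ρ (E 0 0))

theorem mem_N (x : N ρ) : ρ (E 0 0) (x : V) = x := by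
  obtain ⟨y, hy⟩ := x.2
  rw [← hy, ρ_mul, E_mul]

theorem ρ_mem (j : Fin (n + 1)) (v : V) : ρ (E 0 j) v ∈ N ρ :=
  ⟨ρ (E 0 j) v, by rw [ρ_mul, E_mul]⟩

/-- `V` is the direct sum of `n` copies of the first block. -/
noncomputable def eqv : (Fin (n + 1) → N ρ) ≃ₗ[R] V where
  toFun x := ∑ i, ρ (E i 0) (x i)
  map_add' x y := by simp [Finset.sum_add_distrib]
  map_smul' r x := by simp [Finset.smul_sum]
  invFun v := fun j => ⟨ρ (E 0 j) v, ρ_mem ρ j v⟩
  left_inv x := by
    funext j
    apply Subtype.ext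
    change ρ (E 0 j) (∑ i, ρ (E i 0) (x i)) = x j
    rw [map_sum, Finset.sum_eq_single j]
    · rw [ρ_mul, E_mul, mem_N]
    · intro i _ hij
      rw [ρ_mul, E_mul_of_ne _ _ _ _ hij.symm, map_zero, LinearMap.zero_apply]
    · simp
  right_inv v := by
    change ∑ i, ρ (E i 0) (ρ (E 0 i) v) = v
    simp only [ρ_mul, E_mul]
    rw [← LinearMap.sum_apply, ← map_sum, sum_E, map_one]
    rfl

theorem eqv_apply (x : Fin (n + 1) → N ρ) : eqv ρ x = ∑ i, ρ (E i 0) (x i) := rfl

theorem eqv_symm_apply (v : V) (j : Fin (n + 1)) : ((eqv ρ).symm v j : V) = ρ (E 0 j) v := rfl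

theorem ρ_eqv (A : Matrix (Fin (n + 1)) (Fin (n + 1)) R) (x : Fin (n + 1) → N ρ) :
    ρ A (eqv ρ x) = eqv ρ (fun i => ∑ j, A i j • x j) := by
  rw [eqv_apply, eqv_apply, map_sum]
  have h1 : ∀ j, A * E j 0 = ∑ i, A i j • (E i 0 : Matrix (Fin (n + 1)) (Fin (n + 1)) R) := by
    intro j
    ext a b
    rw [Matrix.sum_apply]
    simp only [Matrix.smul_apply, E, Matrix.single_apply, Matrix.mul_apply, smul_eq_mul]
    rw [Finset.sum_eq_single j, Finset.sum_eq_single a]
    · simp
    · intro i _ hia; rw [if_neg, mul_zero]; rintro ⟨h, -⟩; exact hia h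
    · simp
    · intro i _ hij; rw [if_neg, mul_zero]; rintro ⟨h, -⟩; exact hij h.symm
    · simp
  simp only [ρ_mul, h1, map_sum, map_smul, LinearMap.sum_apply, LinearMap.smul_apply,
    Submodule.coe_sum, Submodule.coe_smul]
  rw [Finset.sum_comm]

/-- If `ρ` is surjective and `V` has a surjection to `R`, then the first block is invertible. -/
theorem invertible_N (hρ : Function.Bijective ρ) (hV : ∃ f : V →ₗ[R] R, Function.Surjective f) :
    Module.Invertible R (N ρ) := by
  classical
  refine Groth.Agent.Models2.OmegaFree.invertible_of_end ?_ ?_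
  · intro g
    -- extend `g` to `V`
    let G : Module.End R V := ∑ i, ρ (E i 0) ∘ₗ (N ρ).subtype ∘ₗ g ∘ₗ
      (ρ (E 0 i)).codRestrict (N ρ) (ρ_mem ρ i)
    have hG : ∀ v, G v = ∑ i, ρ (E i 0) (g ⟨ρ (E 0 i) v, ρ_mem ρ i v⟩ : N ρ) := by
      intro v
      simp only [G, LinearMap.sum_apply]
      rfl
    obtain ⟨C, hC⟩ := hρ.2 G
    have hcomm : ∀ k l, Commute (E k l) C := by
      intro k l
      apply hρ.1
      rw [map_mul, map_mul, hC]
      ext v
      change ρ (E k l) (G v) = G (ρ (E k l) v)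
      rw [hG, hG, map_sum, Finset.sum_eq_single l, Finset.sum_eq_single k]
      · simp only [ρ_mul, E_mul]
      · intro i _ hik
        have : (⟨ρ (E 0 i) (ρ (E k l) v), ρ_mem ρ i _⟩ : N ρ) = 0 := by
          apply Subtype.ext
          change ρ (E 0 i) (ρ (E k l) v) = 0
          rw [ρ_mul, E_mul_of_ne _ _ _ _ hik, map_zero, LinearMap.zero_apply]
        rw [this, map_zero, Submodule.coe_zero, map_zero]
      · simp
      · intro i _ hil
        rw [ρ_mul, E_mul_of_ne _ _ _ _ hil.symm, map_zero, LinearMap.zero_apply]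
      · simp
    obtain ⟨r, hr⟩ := Matrix.mem_range_scalar_iff_commute_single'.mpr hcomm
    refine ⟨r, fun m => Subtype.ext ?_⟩
    have h1 : G (m : V) = r • (m : V) := by
      rw [← hC, ← hr]
      have : (Matrix.scalar (Fin (n + 1)) r : Matrix (Fin (n + 1)) (Fin (n + 1)) R) = r • 1 := by
        ext a b; simp [Matrix.one_apply, Matrix.diagonal_apply]
      rw [this, map_smul, map_one]
      rfl
    rw [hG, Finset.sum_eq_single 0] at h1
    · have h2 : (⟨ρ (E 0 0) (m : V), ρ_mem ρ 0 _⟩ : N ρ) = m := Subtype.ext (mem_N ρ m)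
      rw [h2, mem_N] at h1
      exact h1
    · intro i _ hi
      have : (⟨ρ (E 0 i) (m : V), ρ_mem ρ i _⟩ : N ρ) = 0 := by
        apply Subtype.ext
        change ρ (E 0 i) (m : V) = 0
        rw [← mem_N, ρ_mul, E_mul_of_ne _ _ _ _ hi, map_zero, LinearMap.zero_apply]
      rw [this, map_zero, Submodule.coe_zero, map_zero]
    · simp
  · obtain ⟨f, hf⟩ := hV
    obtain ⟨v, hv⟩ := hf 1
    let x := (eqv ρ).symm v
    let g : Fin (n + 1) → Module.Dual R (N ρ) := fun i =>
      (f ∘ₗ (eqv ρ).toLinearMap) ∘ₗ LinearMap.single R (fun _ => N ρ) i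
    have h1 : contractLeft R (N ρ) (∑ i, g i ⊗ₜ x i) = 1 := by
      rw [map_sum]
      simp only [contractLeft_apply]
      have : (f ∘ₗ (eqv ρ).toLinearMap) x = ∑ i, g i (x i) := by
        conv_lhs => rw [← Finset.univ_sum_single x]
        simp only [g, map_sum]
        rfl
      rw [← this, ← hv]
      simp [x]
    intro r
    exact ⟨r • ∑ i, g i ⊗ₜ x i, by rw [map_smul, h1, smul_eq_mul, mul_one]⟩

/-- One direction: if the invertible modules `N` with `N^n ≅ R^n` are free then the automorphisms of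
`M_n(R)` are inner. -/
theorem inner_of_free
    (h : ∀ (N : Type u) [AddCommGroup N] [Module R N] [Module.Invertible R N],
        Nonempty ((Fin (n + 1) → N) ≃ₗ[R] (Fin (n + 1) → R)) → Module.Free R N)
    (φ : Matrix (Fin (n + 1)) (Fin (n + 1)) R ≃ₐ[R] Matrix (Fin (n + 1)) (Fin (n + 1)) R) :
    ∃ P : GL (Fin (n + 1)) R, ∀ A : Matrix (Fin (n + 1)) (Fin (n + 1)) R,
      φ A = P.1 * A * (P⁻¹).1 := by
  classical
  let ρ' : Matrix (Fin (n + 1)) (Fin (n + 1)) R ≃ₐ[R] Module.End R (Fin (n + 1) → R) :=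
    φ.trans Matrix.toLinAlgEquiv'
  let ρ : Matrix (Fin (n + 1)) (Fin (n + 1)) R →ₐ[R] Module.End R (Fin (n + 1) → R) := ρ'
  have hρ : ∀ A v, ρ A v = (φ A).mulVec v := fun A v => rfl
  have hinv : Module.Invertible R (N ρ) := invertible_N ρ ρ'.bijective
    ⟨LinearMap.proj 0, LinearMap.proj_surjective 0⟩
  have hfree : Module.Free R (N ρ) := h (N ρ) ⟨eqv ρ⟩
  obtain ⟨e⟩ := Module.Invertible.free_iff_linearEquiv.mp hfree
  let e' : (Fin (n + 1) → R) ≃ₗ[R] (Fin (n + 1) → R) :=
    (LinearEquiv.piCongrRight fun _ => e.symm) ≪≫ₗ eqv ρ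
  have key : ∀ A r, (φ A).mulVec (e' r) = e' (A.mulVec r) := by
    intro A r
    rw [← hρ]
    change ρ A (eqv ρ _) = eqv ρ _
    rw [ρ_eqv]
    congr 1
    funext i
    change ∑ j, A i j • e.symm (r j) = e.symm (∑ j, A i j * r j)
    rw [map_sum]
    refine Finset.sum_congr rfl fun j _ => ?_
    rw [← map_smul, smul_eq_mul]
  let P : GL (Fin (n + 1)) R := ⟨LinearMap.toMatrix' e'.toLinearMap,
    LinearMap.toMatrix' e'.symm.toLinearMap, by
      rw [← LinearMap.toMatrix'_comp]; simp, by
      rw [← LinearMap.toMatrix'_comp]; simp⟩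
  refine ⟨P, fun A => ?_⟩
  have h2 : φ A * P.1 = P.1 * A := by
    apply Matrix.toLin'.injective
    rw [Matrix.toLin'_mul, Matrix.toLin'_mul]
    apply LinearMap.ext
    intro v
    have hP : ∀ w, Matrix.toLin' P.1 w = e' w := by
      intro w
      change Matrix.toLin' (LinearMap.toMatrix' e'.toLinearMap) w = _
      rw [Matrix.toLin'_toMatrix']
      rfl
    rw [LinearMap.comp_apply, LinearMap.comp_apply, hP, hP, Matrix.toLin'_apply,
      Matrix.toLin'_apply, key]
  rw [← h2, mul_assoc]
  have : P.1 * (P⁻¹).1 = 1 := P.mul_inv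
  rw [this, mul_one]

section converse

open scoped Matrix.Module

variable (W : Type v) [AddCommGroup W] [Module R W]

/-- The matrix action on `W^n`. -/
noncomputable def act (n : ℕ) : Matrix (Fin n) (Fin n) R →ₐ[R] Module.End R (Fin n → W) :=
  AlgHom.ofLinearMap
    { toFun := fun A =>
        { toFun := fun x i => ∑ j, A i j • x j
          map_add' := fun x y => by
            funext i; simp [Finset.sum_add_distrib]
          map_smul' := fun r x => by
            funext i
            simp only [Pi.smul_apply, RingHom.id_apply, Finset.smul_sum]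
            exact Finset.sum_congr rfl fun j _ => smul_comm _ _ _ }
      map_add' := fun A B => by
        ext x; simp [Finset.sum_add_distrib, add_smul]
      map_smul' := fun r A => by
        ext x; simp [Finset.smul_sum, mul_smul] }
    (by
      apply LinearMap.ext; intro x; funext i
      simp [Matrix.one_apply])
    (by
      intro A B
      apply LinearMap.ext; intro x; funext i
      change ∑ j, (A * B) i j • x j = ∑ j, A i j • ∑ k, B j k • x k
      simp only [Matrix.mul_apply, Finset.sum_smul, Finset.smul_sum, mul_smul]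
      rw [Finset.sum_comm])

theorem act_apply {n : ℕ} (A : Matrix (Fin n) (Fin n) R) (x : Fin n → W) (i : Fin n) :
    act W n A x i = ∑ j, A i j • x j := rfl

theorem act_bijective [Module.Invertible R W] (n : ℕ) : Function.Bijective (act (R := R) W n) := by
  classical
  constructor
  · intro A B hAB
    ext i j
    have hfaith : FaithfulSMul R W := inferInstance
    apply hfaith.eq_of_smul_eq_smul
    intro w
    have := congrFun (DFunLike.congr_fun hAB (Pi.single j w)) i
    rw [act_apply, act_apply, Finset.sum_eq_single j, Finset.sum_eq_single j] at this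
    · simpa using this
    · intro k _ hk; simp [hk]
    · simp
    · intro k _ hk; simp [hk]
    · simp
  · intro F
    have h1 : ∀ i j : Fin n, ∃ r : R, ∀ w : W, F (Pi.single j w) i = r • w := by
      intro i j
      obtain ⟨r, hr⟩ := (toModuleEnd_bijective (R := R) (M := W)).2
        ((LinearMap.proj i ∘ₗ F) ∘ₗ LinearMap.single R (fun _ => W) j)
      exact ⟨r, fun w => (DFunLike.congr_fun hr w).symm⟩
    choose r hr using h1
    refine ⟨Matrix.of r, ?_⟩
    apply LinearMap.ext
    intro x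
    funext i
    rw [act_apply]
    conv_rhs => rw [← Finset.univ_sum_single x]
    rw [map_sum, Finset.sum_apply]
    exact Finset.sum_congr rfl fun j _ => (hr i j (x j)).symm

/-- The other direction. -/
theorem free_of_inner
    (h : ∀ φ : Matrix (Fin (n + 1)) (Fin (n + 1)) R ≃ₐ[R] Matrix (Fin (n + 1)) (Fin (n + 1)) R,
        ∃ P : GL (Fin (n + 1)) R, ∀ A : Matrix (Fin (n + 1)) (Fin (n + 1)) R,
          φ A = P.1 * A * (P⁻¹).1)
    [Module.Invertible R W] (e : (Fin (n + 1) → W) ≃ₗ[R] (Fin (n + 1) → R)) : Module.Free R W := by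
  classical
  let φ : Matrix (Fin (n + 1)) (Fin (n + 1)) R ≃ₐ[R] Matrix (Fin (n + 1)) (Fin (n + 1)) R :=
    ((AlgEquiv.ofBijective (act W (n + 1)) (act_bijective W (n + 1))).trans
      (LinearEquiv.conjAlgEquiv R e)).trans Matrix.toLinAlgEquiv'.symm
  have hφ : ∀ A v, (φ A).mulVec v = e (act W (n + 1) A (e.symm v)) := by
    intro A v
    have : Matrix.toLinAlgEquiv' (φ A) = (LinearEquiv.conjAlgEquiv R e) (act W (n + 1) A) := by
      simp [φ]
    have h2 := DFunLike.congr_fun this v
    rw [Matrix.toLinAlgEquiv'_apply] at h2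
    rw [h2]
    rfl
  obtain ⟨P, hP⟩ := h φ
  let f : (Fin (n + 1) → W) ≃ₗ[R] (Fin (n + 1) → R) :=
    e ≪≫ₗ (Matrix.toLin'OfInv (M := P.1) (M' := (P⁻¹).1) P.mul_inv P.inv_mul)
  have hf : ∀ x, f x = (P⁻¹).1.mulVec (e x) := by
    intro x
    rfl
  have hfA : ∀ A x, f (act W (n + 1) A x) = A.mulVec (f x) := by
    intro A x
    rw [hf, hf]
    have h1 := hφ A (e x)
    rw [e.symm_apply_apply, hP] at h1
    rw [← h1, Matrix.mulVec_mulVec, Matrix.mulVec_mulVec, ← mul_assoc, ← mul_assoc]
    have : (P⁻¹).1 * P.1 = 1 := P.inv_mul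
    rw [this, one_mul]
  have hact : ∀ x : Fin (n + 1) → W, act W (n + 1) (E 0 0 : Matrix _ _ R) x = Pi.single 0 (x 0) := by
    intro x
    funext i
    rw [act_apply]
    by_cases hi : i = 0
    · subst hi
      rw [Finset.sum_eq_single 0]
      · simp
      · intro j _ hj; simp [E, hj.symm]
      · simp
    · rw [Pi.single_eq_of_ne hi]
      refine Finset.sum_eq_zero fun j _ => ?_
      simp [E, Matrix.single_apply, Ne.symm hi]
  have hact' : ∀ x : Fin (n + 1) → R, act R (n + 1) (E 0 0 : Matrix _ _ R) x = Pi.single 0 (x 0) := by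
    intro x
    funext i
    rw [act_apply]
    by_cases hi : i = 0
    · subst hi
      rw [Finset.sum_eq_single 0]
      · simp
      · intro j _ hj; simp [E, hj.symm]
      · simp
    · rw [Pi.single_eq_of_ne hi]
      refine Finset.sum_eq_zero fun j _ => ?_
      simp [E, Ne.symm hi]
  have hvec : ∀ x : Fin (n + 1) → R, (E 0 0 : Matrix _ _ R).mulVec x = Pi.single 0 (x 0) := by
    intro x
    have h0 := hact' x
    rw [← h0]
    funext i
    rfl
  have key : ∀ x, f (Pi.single 0 (x 0)) = Pi.single 0 (f x 0) := by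
    intro x
    rw [← hact, hfA, hvec]
  let a : W →ₗ[R] R := (LinearMap.proj 0 ∘ₗ f.toLinearMap) ∘ₗ LinearMap.single R (fun _ => W) 0
  let b : R →ₗ[R] W := (LinearMap.proj 0 ∘ₗ f.symm.toLinearMap) ∘ₗ LinearMap.single R (fun _ => R) 0
  have ha : ∀ w, a w = f (Pi.single 0 w) 0 := fun w => rfl
  have hb : ∀ r, b r = f.symm (Pi.single 0 r) 0 := fun w => rfl
  refine Module.Free.of_equiv (LinearEquiv.ofLinearMap b a ?_ ?_)
  · apply LinearMap.ext
    intro w
    rw [LinearMap.comp_apply, LinearMap.id_apply, ha, hb]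
    have h1 := key (Pi.single 0 w)
    rw [Pi.single_eq_same] at h1
    rw [← h1, f.symm_apply_apply, Pi.single_eq_same]
  · apply LinearMap.ext
    intro r
    rw [LinearMap.comp_apply, LinearMap.id_apply, ha, hb, key, f.apply_symm_apply]
    simp

end converse

end K819.MatAut
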