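import Mathlib.RingTheory.PicardGroup
import Mathlib.LinearAlgebra.Matrix.Determinant.Basic
import Mathlib.LinearAlgebra.Matrix.NonsingularInverse
import Mathlib.RingTheory.Localization.Away.Basic

set_option autoImplicit false

open CommRing Module Module.Invertible TensorProduct

namespace K819.PicDet

universe u v w

/-- A finite family `f_i ∈ N^∨`, `m_i ∈ N` with `∑ f_i m_i = 1`. -/
theorem exists_pairs (R : Type u) [CommRing R] (N : Type v) [AddCommGroup N] [Module R N]
    [Module.Invertible R N] :
    ∃ (s : Finset (Module.Dual R N × N)), ∑ p ∈ s, p.1 p.2 = 1 := by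
  classical
  obtain ⟨S, hS⟩ := ((linearEquiv R N).symm 1).exists_finset
  refine ⟨S, ?_⟩
  have := congrArg (linearEquiv R N) hS
  rw [LinearEquiv.apply_symm_apply, map_sum] at this
  rw [this]
  exact Finset.sum_congr rfl fun p _ => by simp [linearEquiv]

/-- For an invertible module, `f(x) y = f(y) x`. -/
theorem swap {R : Type u} [CommRing R] {N : Type v} [AddCommGroup N] [Module R N]
    [Module.Invertible R N] (f : N →ₗ[R] R) (x y : N) : f x • y = f y • x := by
  have h := congrArg ((TensorProduct.lid R N).toLinearMap ∘ₗ f.rTensor N)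
    (Module.Invertible.tmul_comm (R := R) (m₁ := x) (m₂ := y))
  simpa using h

/-- The product of the localisations away from elements generating the unit ideal is faithful. -/
theorem faithful_pi {R : Type u} [CommRing R] {ι : Type w} (s : Finset ι) (r : ι → R)
    (hs : ∑ i ∈ s, r i = 1) : FaithfulSMul R (Π p : s, Localization.Away (r p.1)) := by
  rw [faithfulSMul_iff_algebraMap_injective, injective_iff_map_eq_zero]
  intro a ha
  -- the annihilator of `a`
  let J : Ideal R := LinearMap.ker (LinearMap.toSpanSingleton R R a)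
  have hJ : J.radical = ⊤ := by
    rw [Ideal.eq_top_iff_one, ← hs]
    refine Ideal.sum_mem _ fun p hp => ?_
    have h : algebraMap R (Localization.Away (r p)) a = 0 := congrFun ha ⟨p, hp⟩
    rw [IsLocalization.map_eq_zero_iff (Submonoid.powers (r p))] at h
    obtain ⟨⟨_, k, rfl⟩, hk⟩ := h
    exact ⟨k, by simpa [J] using hk⟩
  rw [Ideal.radical_eq_top, Ideal.eq_top_iff_one] at hJ
  simpa [J] using hJ

/-- The linear extension of `x ↦ (f_i x)_i` is surjective. -/
theorem surj_pi {R : Type u} [CommRing R] {N : Type v} [AddCommGroup N] [Module R N]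
    (s : Finset (Module.Dual R N × N)) :
    Function.Surjective (LinearMap.liftBaseChange (Π p : s, Localization.Away (p.1.1 p.1.2 : R))
      (LinearMap.pi (R := R) fun p : s =>
        (Algebra.linearMap R (Localization.Away (p.1.1 p.1.2 : R))).comp p.1.1)) := by
  classical
  rw [← LinearMap.range_eq_top, Ideal.eq_top_iff_one,
    ← Finset.univ_sum_single (1 : Π p : s, Localization.Away (p.1.1 p.1.2 : R))]
  refine Ideal.sum_mem _ fun p _ => ?_
  refine ⟨(Pi.single p (IsLocalization.Away.invSelf (p.1.1 p.1.2 : R))) ⊗ₜ p.1.2, ?_⟩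
  rw [LinearMap.liftBaseChange_tmul, smul_eq_mul]
  funext q
  by_cases hq : q = p
  · subst hq
    rw [Pi.mul_apply, Pi.single_eq_same, Pi.single_eq_same, mul_comm]
    exact IsLocalization.Away.mul_invSelf (q.1.1 q.1.2 : R)
  · rw [Pi.mul_apply, Pi.single_eq_of_ne hq, Pi.single_eq_of_ne hq, zero_mul]

/-- An invertible module becomes trivial over a faithful algebra (a finite product of
localisations). -/
theorem exists_algebra (R : Type u) [CommRing R] (N : Type v) [AddCommGroup N] [Module R N]
    [Module.Invertible R N] :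
    ∃ (A : Type (max u v)) (_ : CommRing A) (_ : Algebra R A) (_ : FaithfulSMul R A),
      Nonempty (A ⊗[R] N ≃ₗ[A] A) := by
  classical
  obtain ⟨s, hs⟩ := exists_pairs R N
  exact ⟨Π p : s, Localization.Away (p.1.1 p.1.2 : R), inferInstance, inferInstance,
    faithful_pi s (fun p => p.1 p.2) hs,
    ⟨LinearEquiv.ofBijective _ (bijective_of_surjective (surj_pi s))⟩⟩

/-- A linear form on an invertible submodule of an algebra is multiplication by an element of the
inverse. -/
theorem exists_mem_inv {R : Type u} [CommRing R] {A : Type v} [CommRing A] [Algebra R A]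
    (I : (Submodule R A)ˣ) (φ : (I : Submodule R A) →ₗ[R] R) :
    ∃ c ∈ ((I⁻¹ : (Submodule R A)ˣ) : Submodule R A), ∀ x : (I : Submodule R A),
      algebraMap R A (φ x) = c * x := by
  -- the set of `y : A` such that there is `c ∈ I⁻¹` with ` y φ(x) = c x`
  let S : Submodule R A :=
    { carrier := {y | ∃ c ∈ ((I⁻¹ : (Submodule R A)ˣ) : Submodule R A), ∀ x : (I : Submodule R A),
        y * algebraMap R A (φ x) = c * x}
      add_mem' := by
        rintro y z ⟨c, hc, hc'⟩ ⟨d, hd, hd'⟩
        exact ⟨c + d, add_mem hc hd, fun x => by rw [add_mul, hc', hd', add_mul]⟩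
      zero_mem' := ⟨0, zero_mem _, fun x => by simp⟩
      smul_mem' := by
        rintro r y ⟨c, hc, hc'⟩
        exact ⟨r • c, Submodule.smul_mem _ r hc, fun x => by
          rw [smul_mul_assoc, hc', smul_mul_assoc]⟩ }
  have h1 : (1 : A) ∈ S := by
    have : (1 : A) ∈ ((I : (Submodule R A)ˣ) : Submodule R A) * ((I⁻¹ : (Submodule R A)ˣ) : Submodule R A) := by
      rw [Units.mul_inv]; exact Submodule.one_le.mp le_rfl
    refine Submodule.mul_le.mpr ?_ this
    intro a ha b hb
    refine ⟨φ ⟨a, ha⟩ • b, Submodule.smul_mem _ _ hb, fun x => ?_⟩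
    -- `x b ∈ R`
    have hxb : (x : A) * b ∈ (1 : Submodule R A) := by
      rw [← Units.mul_inv I]; exact Submodule.mul_mem_mul x.2 hb
    obtain ⟨r, hr⟩ := Submodule.mem_one.mp hxb
    have hab : a * b ∈ (1 : Submodule R A) := by
      rw [← Units.mul_inv I]; exact Submodule.mul_mem_mul ha hb
    obtain ⟨t, ht⟩ := Submodule.mem_one.mp hab
    have e1 : r • (⟨a, ha⟩ : (I : Submodule R A)) = t • x := by
      apply Subtype.ext
      simp only [Submodule.coe_smul, Algebra.smul_def, hr, ht]
      ring
    have e2 : r * φ ⟨a, ha⟩ = t * φ x := by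
      have := congrArg φ e1
      rwa [map_smul, map_smul, smul_eq_mul, smul_eq_mul] at this
    rw [← ht, ← map_mul, ← e2, map_mul, hr, Algebra.smul_def]
    ring
  obtain ⟨c, hc, hc'⟩ := h1
  exact ⟨c, hc, fun x => by rw [← hc' x, one_mul]⟩

theorem prod_mem_pow {R : Type u} [CommRing R] {A : Type v} [CommRing A] [Algebra R A]
    (I : Submodule R A) {ι : Type w} (s : Finset ι) (f : ι → A) (h : ∀ i ∈ s, f i ∈ I) :
    ∏ i ∈ s, f i ∈ I ^ s.card := by
  classical
  induction s using Finset.induction_on with
  | empty => simp only [Finset.prod_empty, Finset.card_empty, pow_zero]; exact Submodule.one_le.mp le_rfl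
  | insert a s ha ih =>
    rw [Finset.prod_insert ha, Finset.card_insert_of_notMem ha, pow_succ']
    exact Submodule.mul_mem_mul (h a (by simp)) (ih fun i hi => h i (by simp [hi]))

theorem det_mem_pow {R : Type u} [CommRing R] {A : Type v} [CommRing A] [Algebra R A]
    (I : Submodule R A) {n : ℕ} (B : Matrix (Fin n) (Fin n) A) (h : ∀ i j, B i j ∈ I) :
    B.det ∈ I ^ n := by
  rw [Matrix.det_apply]
  refine Submodule.sum_mem _ fun σ _ => ?_
  have : ∏ i, B (σ i) i ∈ I ^ n := by
    have := prod_mem_pow I (Finset.univ : Finset (Fin n)) (fun i => B (σ i) i) fun i _ => h _ _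
    simpa using this
  rcases Int.units_eq_one_or (Equiv.Perm.sign σ) with h1 | h1
  · simpa [h1] using this
  · simpa [h1] using this

/-- If `I^n ≅ R^n` for an invertible submodule `I` of an algebra then `I ^ n` is principal. -/
theorem unitsToPic_pow_eq_one {R : Type u} [CommRing R] {A : Type v} [CommRing A] [Algebra R A]
    [FaithfulSMul R A] (I : (Submodule R A)ˣ) (n : ℕ)
    (e : (Fin n → (I : Submodule R A)) ≃ₗ[R] (Fin n → R)) :
    Submodule.unitsToPic R A I ^ n = 1 := by
  classical
  choose c hc hc' using fun i j : Fin n => exists_mem_inv I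
    ((LinearMap.proj i ∘ₗ e.toLinearMap) ∘ₗ LinearMap.single R (fun _ : Fin n => (I : Submodule R A)) j)
  let C : Matrix (Fin n) (Fin n) A := Matrix.of c
  let B : Matrix (Fin n) (Fin n) A := Matrix.of fun i j => ((e.symm (Pi.single j 1) i : (I : Submodule R A)) : A)
  have hCB : C * B = 1 := by
    ext i j
    rw [Matrix.mul_apply]
    have h1 : ∀ x : Fin n → (I : Submodule R A), algebraMap R A (e x i) = ∑ k, c i k * (x k : A) := by
      intro x
      have : e x i = ∑ k, ((LinearMap.proj i ∘ₗ e.toLinearMap) ∘ₗ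
          LinearMap.single R (fun _ : Fin n => (I : Submodule R A)) k) (x k) := by
        conv_lhs => rw [← Finset.univ_sum_single x]
        simp [map_sum]
      rw [this, map_sum]
      exact Finset.sum_congr rfl fun k _ => hc' i k (x k)
    have h2 := h1 (e.symm (Pi.single j 1))
    rw [LinearEquiv.apply_symm_apply] at h2
    rw [Matrix.one_apply]
    change ∑ k, c i k * ((e.symm (Pi.single j 1) k : (I : Submodule R A)) : A) = _
    rw [← h2]
    by_cases hij : i = j
    · subst hij; simp
    · simp [hij]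
  have hdet : C.det * B.det = 1 := by rw [← Matrix.det_mul, hCB, Matrix.det_one]
  have hB : B.det ∈ (I : Submodule R A) ^ n := det_mem_pow _ B fun i j => Subtype.property _
  have hC : C.det ∈ ((I⁻¹ : (Submodule R A)ˣ) : Submodule R A) ^ n := det_mem_pow _ C fun i j => hc i j
  have hspan : (I : Submodule R A) ^ n = Submodule.span R {B.det} := by
    apply le_antisymm
    · intro x hx
      have h3 : x * C.det ∈ (1 : Submodule R A) := by
        have := Submodule.mul_mem_mul hx hC
        rwa [← mul_pow, Units.mul_inv, one_pow] at this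
      obtain ⟨r, hr⟩ := Submodule.mem_one.mp h3
      refine Submodule.mem_span_singleton.mpr ⟨r, ?_⟩
      rw [Algebra.smul_def, hr, mul_assoc, hdet, mul_one]
    · rw [Submodule.span_le, Set.singleton_subset_iff]
      exact hB
  rw [← map_pow]
  refine MonoidHom.mem_ker.mp ?_
  rw [Submodule.ker_unitsToPic]
  refine ⟨⟨B.det, C.det, by rw [mul_comm]; exact hdet, hdet⟩, ?_⟩
  apply Units.ext
  rw [Units.val_pow_eq_pow_val, hspan]
  rfl

/-- If `N` is invertible and `N^n ≅ R^n` then `[N]^n = 1`. -/
theorem pic_mk_pow_eq_one {R : Type u} [CommRing R] (N : Type v)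
    [AddCommGroup N] [Module R N] [Module.Invertible R N] (n : ℕ)
    (e : (Fin n → N) ≃ₗ[R] (Fin n → R)) : CommRing.Pic.mk R N ^ n = 1 := by
  obtain ⟨A, _, _, _, ⟨hM⟩⟩ := exists_algebra R (Pic.mk R N)
  have hM' : Pic.mk R N ∈ relPic R A :=
    MonoidHom.mem_ker.mpr (by rw [Pic.mapAlgebra_apply, Pic.mk_eq_one_iff]; exact ⟨hM⟩)
  rw [← Submodule.range_unitsToPic] at hM'
  obtain ⟨I, hI⟩ := hM'
  have hI' : Pic.mk R (I : Submodule R A) = Pic.mk R N := hI
  rw [Pic.mk_eq_mk_iff] at hI'
  obtain ⟨e1⟩ := hI'
  rw [← hI]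
  exact unitsToPic_pow_eq_one I n ((LinearEquiv.piCongrRight fun _ => e1) ≪≫ₗ e)

end K819.PicDet
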