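import Groth.Agent.DivAlg.K819.PicDet
import Mathlib.RingTheory.DedekindDomain.Basic
import Mathlib.RingTheory.KrullDimension.Zero
import Mathlib.RingTheory.Artinian.Module
import Mathlib.RingTheory.HopkinsLevitzki
import Mathlib.RingTheory.Ideal.Quotient.Noetherian

set_option autoImplicit false

open CommRing Module Module.Invertible TensorProduct

namespace K819.Steinitz

universe u v w

variable {R : Type u} [CommRing R]

/-- If `φ : N → R` is a linear form on an invertible module whose image is comaximal with the ideal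
`I`, then `I ⊕ N ≅ R ⊕ (I ⊗ N)`. -/
theorem nonempty_equiv (I : Ideal R) (N : Type v) [AddCommGroup N] [Module R N]
    [Module.Invertible R N] (φ : N →ₗ[R] R) (a₀ : I) (y₀ : N) (h : (a₀ : R) + φ y₀ = 1) :
    Nonempty ((I × N) ≃ₗ[R] (R × (I ⊗[R] N))) := by
  -- the two maps
  let f : (I × N) →ₗ[R] R := LinearMap.coprod I.subtype φ
  let μ : I ⊗[R] N →ₗ[R] N := TensorProduct.lift ((LinearMap.lsmul R N).comp I.subtype)
  let ν : I ⊗[R] N →ₗ[R] I := TensorProduct.lift
    ((-LinearMap.lsmul R I).flip.compl₂ φ)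
  have hμ : ∀ (a : I) (y : N), μ (a ⊗ₜ y) = (a : R) • y := fun a y => rfl
  have hν : ∀ (a : I) (y : N), ν (a ⊗ₜ y) = - (φ y • a) := fun a y => rfl
  have hμinj : Function.Injective μ := by
    have h1 : μ = (TensorProduct.lid R N).toLinearMap ∘ₗ I.subtype.rTensor N := by
      ext a y; rfl
    rw [h1, LinearMap.coe_comp]
    exact (TensorProduct.lid R N).injective.comp
      (Module.Flat.rTensor_preserves_injective_linearMap _ Subtype.val_injective)
  have hfθ : ∀ t : I ⊗[R] N, ((ν t : I) : R) + φ (μ t) = 0 := by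
    intro t
    induction t with
    | zero => simp
    | add x y hx hy =>
      rw [map_add, map_add, map_add, Submodule.coe_add]
      linear_combination hx + hy
    | tmul a y =>
      rw [hμ, hν, map_smul]
      simp only [Submodule.coe_neg, Submodule.coe_smul, smul_eq_mul]
      ring
  let G : (R × (I ⊗[R] N)) →ₗ[R] (I × N) :=
    LinearMap.coprod (LinearMap.toSpanSingleton R _ (a₀, y₀)) (LinearMap.prod ν μ)
  have hG : ∀ r t, G (r, t) = (r • a₀ + ν t, r • y₀ + μ t) := fun r t => rfl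
  refine ⟨(LinearEquiv.ofBijective G ⟨?_, ?_⟩).symm⟩
  · rw [← LinearMap.ker_eq_bot, LinearMap.ker_eq_bot']
    rintro ⟨r, t⟩ hrt
    rw [hG] at hrt
    have h1 := congrArg (fun z : I => (z : R)) (congrArg Prod.fst hrt)
    have h2 := congrArg Prod.snd hrt
    simp only [Submodule.coe_add, Submodule.coe_smul, smul_eq_mul, Prod.fst_zero,
      Submodule.coe_zero] at h1
    simp only [Prod.snd_zero] at h2
    have h3 := congrArg φ h2
    rw [map_add, map_smul, smul_eq_mul, map_zero] at h3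
    have hr : r = 0 := by
      have := hfθ t
      linear_combination h1 + h3 - this - r * h
    subst hr
    rw [zero_smul, zero_add] at h2
    have ht : t = 0 := hμinj (by rw [h2, map_zero])
    rw [ht]; rfl
  · rintro ⟨a, y⟩
    refine ⟨((a : R) + φ y, a₀ ⊗ₜ (y - ((a : R) + φ y) • y₀)
      - (a - ((a : R) + φ y) • a₀) ⊗ₜ y₀), ?_⟩
    rw [hG, map_sub, map_sub, hμ, hμ, hν, hν]
    have hs := K819.PicDet.swap φ y y₀
    refine Prod.ext (Subtype.ext ?_) ?_
    · simp only [Submodule.coe_add, Submodule.coe_sub, Submodule.coe_neg, Submodule.coe_smul,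
        smul_eq_mul, map_sub, map_smul]
      linear_combination (a : R) * h
    · simp only [Submodule.coe_sub, Submodule.coe_smul, smul_eq_mul]
      have e1 : y = (a₀ : R) • y + φ y • y₀ := by
        rw [hs, ← add_smul, h, one_smul]
      conv_rhs => rw [e1]
      module

/-- Over a ring such that `R/I` is semilocal there is a linear form on an invertible module with
image comaximal with `I`. -/
theorem exists_form (I : Ideal R) [Finite (MaximalSpectrum (R ⧸ I))] (N : Type v)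
    [AddCommGroup N] [Module R N] [Module.Invertible R N] :
    ∃ (φ : N →ₗ[R] R) (a₀ : I) (y₀ : N), (a₀ : R) + φ y₀ = 1 := by
  obtain ⟨s, hs⟩ := K819.PicDet.exists_pairs R N
  have hfree : Module.Free (R ⧸ I) ((R ⧸ I) ⊗[R] (Module.Dual R N)) := inferInstance
  obtain ⟨e⟩ := Module.Invertible.free_iff_linearEquiv.mp hfree
  -- the generator
  have hsurj : ∀ z : (R ⧸ I) ⊗[R] (Module.Dual R N), ∃ f : Module.Dual R N, (1 : R ⧸ I) ⊗ₜ f = z := by
    intro z
    induction z with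
    | zero => exact ⟨0, by simp⟩
    | add x y hx hy =>
      obtain ⟨f, hf⟩ := hx
      obtain ⟨g, hg⟩ := hy
      exact ⟨f + g, by rw [TensorProduct.tmul_add, hf, hg]⟩
    | tmul r f =>
      obtain ⟨r, rfl⟩ := Ideal.Quotient.mk_surjective r
      refine ⟨r • f, ?_⟩
      rw [TensorProduct.tmul_smul, TensorProduct.smul_tmul', Algebra.smul_def, mul_one]
      rfl
  obtain ⟨φ, hφ⟩ := hsurj (e.symm 1)
  have key : ∀ f : Module.Dual R N, ∃ r : R, ∀ m : N, f m - r * φ m ∈ I := by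
    intro f
    obtain ⟨r, hr⟩ := Ideal.Quotient.mk_surjective (e (1 ⊗ₜ f))
    refine ⟨r, fun m => ?_⟩
    have h1 : (1 : R ⧸ I) ⊗ₜ[R] f = (1 : R ⧸ I) ⊗ₜ[R] (r • φ) := by
      apply e.injective
      have h0 : e (r • e.symm 1) = r • (1 : R ⧸ I) := by
        have := (e.restrictScalars R).map_smul r (e.symm 1)
        rw [LinearEquiv.restrictScalars_apply, LinearEquiv.restrictScalars_apply,
          e.apply_symm_apply] at this
        exact this
      rw [← hr, TensorProduct.tmul_smul, hφ, h0, Algebra.smul_def, mul_one]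
      rfl
    let ev : (R ⧸ I) ⊗[R] (Module.Dual R N) →ₗ[R] (R ⧸ I) :=
      TensorProduct.lift ((LinearMap.lsmul R (R ⧸ I)).flip.compl₂ (Module.Dual.eval R N m))
    have h2 : ∀ g : Module.Dual R N, ev (1 ⊗ₜ g) = Ideal.Quotient.mk I (g m) := by
      intro g
      change (g m) • (1 : R ⧸ I) = _
      rw [Algebra.smul_def, mul_one]
      rfl
    have h3 := congrArg ev h1
    rw [h2, h2, Ideal.Quotient.eq] at h3
    simpa using h3
  choose r hr using key
  refine ⟨φ, ⟨1 - ∑ p ∈ s, r p.1 * φ p.2, ?_⟩, ∑ p ∈ s, r p.1 • p.2, ?_⟩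
  · conv in (1 : R) => rw [← hs]
    rw [← Finset.sum_sub_distrib]
    exact Ideal.sum_mem _ fun p _ => hr _ _
  · simp

/-- Steinitz: over a Dedekind domain `L ⊕ N ≅ R ⊕ (L ⊗ N)` for invertible modules. -/
theorem steinitz [IsDedekindDomain R] (L : Type w) [AddCommGroup L] [Module R L]
    [Module.Invertible R L] (N : Type v) [AddCommGroup N] [Module R N] [Module.Invertible R N] :
    Nonempty ((L × N) ≃ₗ[R] (R × (L ⊗[R] N))) := by
  obtain ⟨I, ⟨e⟩⟩ := Module.Invertible.exists_linearEquiv_ideal R L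
  have hI : I ≠ ⊥ := by
    rintro rfl
    have h1 : Subsingleton L := e.toEquiv.subsingleton
    have h2 : FaithfulSMul R L := inferInstance
    have : (0 : R) = 1 := h2.eq_of_smul_eq_smul fun a => Subsingleton.elim _ _
    exact zero_ne_one this
  have hdim : Ring.KrullDimLE 0 (R ⧸ I) := by
    rw [Ideal.krullDimLE_zero_quotient_iff_forall_minimalPrimes_isMaximal]
    intro J hJ
    have hJp : J.IsPrime := hJ.1.1
    exact hJp.isMaximal fun h => hI (le_bot_iff.mp (h ▸ hJ.1.2))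
  have hnoeth : IsNoetherianRing (R ⧸ I) := Ideal.Quotient.isNoetherianRing I
  have hart : IsArtinianRing (R ⧸ I) := isArtinianRing_iff_krullDimLE_zero.mpr hdim
  obtain ⟨φ, a₀, y₀, h⟩ := exists_form I N
  obtain ⟨e'⟩ := nonempty_equiv I N φ a₀ y₀ h
  exact ⟨(e.prodCongr (LinearEquiv.refl R N)) ≪≫ₗ e' ≪≫ₗ
    ((LinearEquiv.refl R R).prodCongr (TensorProduct.congr e.symm (LinearEquiv.refl R N)))⟩

/-- Over a Dedekind domain, `N^{n+1} ≅ R^n ⊕ P` where `[P] = [N]^{n+1}`. -/
theorem pow_equiv [IsDedekindDomain R] (N : Type v) [AddCommGroup N] [Module R N]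
    [Module.Invertible R N] (n : ℕ) :
    ∀ (P : Pic R), P = Pic.mk R N ^ (n + 1) →
      Nonempty ((Fin (n + 1) → N) ≃ₗ[R] ((Fin n → R) × P)) := by
  induction n with
  | zero =>
    intro P hP
    rw [zero_add, pow_one] at hP
    obtain ⟨e⟩ := Pic.mk_eq_iff.mp hP.symm
    exact ⟨(LinearEquiv.funUnique (Fin 1) R N) ≪≫ₗ e ≪≫ₗ
      (LinearEquiv.prodUnique (R := R) (M := P) (M₂ := (Fin 0 → R))).symm ≪≫ₗ
      LinearEquiv.prodComm R P (Fin 0 → R)⟩
  | succ n ih =>
    intro P hP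
    obtain ⟨e₁⟩ := ih (Pic.mk R N ^ (n + 1)) rfl
    obtain ⟨e₂⟩ := steinitz (R := R) N ((Pic.mk R N ^ (n + 1) : Pic R))
    have h3 : Pic.mk R (N ⊗[R] (Pic.mk R N ^ (n + 1) : Pic R)) = P := by
      rw [Pic.mk_tensor, Pic.mk_eq_self, hP, pow_succ' _ (n + 1)]
    obtain ⟨e₃⟩ := Pic.mk_eq_iff.mp h3
    have e₄ : (Fin (n + 1 + 1) → N) ≃ₗ[R] (N × (Fin (n + 1) → N)) :=
      (Fin.consLinearEquiv R (fun _ : Fin (n + 1 + 1) => N)).symm
    have e₅ : (Fin (n + 1) → R) ≃ₗ[R] (R × (Fin n → R)) :=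
      (Fin.consLinearEquiv R (fun _ : Fin (n + 1) => R)).symm
    refine ⟨e₄ ≪≫ₗ ((LinearEquiv.refl R N).prodCongr (e₁ ≪≫ₗ LinearEquiv.prodComm R _ _)) ≪≫ₗ
      (LinearEquiv.prodAssoc R N _ _).symm ≪≫ₗ (e₂.prodCongr (LinearEquiv.refl R _)) ≪≫ₗ
      ?_⟩
    exact (((LinearEquiv.refl R R).prodCongr e₃).prodCongr (LinearEquiv.refl R _)) ≪≫ₗ
      (LinearEquiv.prodAssoc R R _ _) ≪≫ₗ
      ((LinearEquiv.refl R R).prodCongr (LinearEquiv.prodComm R _ _)) ≪≫ₗ
      (LinearEquiv.prodAssoc R R _ _).symm ≪≫ₗ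
      (e₅.symm.prodCongr (LinearEquiv.refl R _))

/-- Over a Dedekind domain, `[N]^n = 1` implies `N^n ≅ R^n`. -/
theorem nonempty_pi_equiv [IsDedekindDomain R] (N : Type v) [AddCommGroup N] [Module R N]
    [Module.Invertible R N] (n : ℕ) (h : Pic.mk R N ^ n = 1) :
    Nonempty ((Fin n → N) ≃ₗ[R] (Fin n → R)) := by
  cases n with
  | zero => exact ⟨{ (0 : (Fin 0 → N) →ₗ[R] (Fin 0 → R)) with
      invFun := 0
      left_inv := fun x => Subsingleton.elim _ _
      right_inv := fun x => Subsingleton.elim _ _ }⟩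
  | succ n =>
    obtain ⟨e⟩ := pow_equiv N n 1 h.symm
    have e' : ((1 : Pic R) : Type u) ≃ₗ[R] R :=
      (Pic.mk_eq_one_iff.mp (Pic.mk_eq_self (R := R) (M := 1))).some
    have e₅ : (Fin (n + 1) → R) ≃ₗ[R] (R × (Fin n → R)) :=
      (Fin.consLinearEquiv R (fun _ : Fin (n + 1) => R)).symm
    exact ⟨e ≪≫ₗ ((LinearEquiv.refl R _).prodCongr e') ≪≫ₗ LinearEquiv.prodComm R _ _ ≪≫ₗ e₅.symm⟩

end K819.Steinitz
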